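import Groth.Agent.StMod.K906.SpGeo

/-!
# Base change of an affine étale chart along a finite morphism of spaces
-/

set_option autoImplicit false
set_option linter.unusedVariables false
set_option linter.style.haveILetI false
set_option backward.isDefEq.respectTransparency false
set_option backward.isDefEq.respectTransparency.types false

universe u

open CategoryTheory CategoryTheory.Limits AlgebraicGeometry Opposite StMod AlgSt AlgSp

namespace K872.FinLev

open K906 K906.SpGeo

/-- The universal object over `η` of a pullback square along `g`. -/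
theorem exists_of_isPullback {S : Scheme.{u}} {M' M : Sp S} {g : M' ⟶ M} {W : Over S} {η : (ofSp M).obj}
    {i : W ⟶ η.base} {fst : (yon S).obj W ⟶ M'} (sq : IsPullback fst ((yon S).map i) g (toMap η)) :
    ∃ (η' : (ofSp M').obj) (hb : η'.base = W) (m : (ofSpMap g).obj η' ⟶ η), toMap η' = (yon S).map (eqToHom hb) ≫ fst ∧
      m.hom = eqToHom hb ≫ i ∧ ∀ (T : (ofSp M').obj) (β : (ofSpMap g).obj T ⟶ η), ∃! γ : T ⟶ η', (ofSpMap g).map γ ≫ m = β := by
  obtain ⟨η', hb, hη'⟩ : ∃ (η' : (ofSp M').obj) (hb : η'.base = W), toMap η' = (yon S).map (eqToHom hb) ≫ fst :=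
    ⟨⟨W, (J S).uliftYonedaEquiv fst⟩, rfl, by
      rw [toMap_mk, eqToHom_refl, CategoryTheory.Functor.map_id, Category.id_comp]⟩
  subst hb
  rw [eqToHom_refl, CategoryTheory.Functor.map_id, Category.id_comp] at hη'
  have hm : (yon S).map i ≫ toMap η = toMap ((ofSpMap g).obj η') := by
    rw [toMap_ofSpMap, hη', sq.w]
  let m : (ofSpMap g).obj η' ⟶ η := homMk (η' := (ofSpMap g).obj η') (η := η) i hm
  have hm' : m.hom = i := rfl
  refine ⟨η', rfl, m, ?_, ?_, fun T β => ?_⟩
  · rw [eqToHom_refl, CategoryTheory.Functor.map_id, Category.id_comp]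
    exact hη'
  · rw [eqToHom_refl, Category.id_comp]
    rfl
  have w : toMap T ≫ g = (yon S).map β.hom ≫ toMap η := by
    rw [toMap_comp β, toMap_ofSpMap]
  obtain ⟨c, hc⟩ := (yon S).map_surjective (sq.lift (toMap T) ((yon S).map β.hom) w)
  have h1 : (yon S).map c ≫ toMap η' = toMap T := by rw [hη', hc, sq.lift_fst]
  have h2 : c ≫ i = β.hom := by
    apply (yon S).map_injective
    rw [Functor.map_comp, hc, sq.lift_snd]
  refine ⟨homMk c h1, ?_, ?_⟩
  · refine Stk.EltObj.hom_ext ?_
    change c ≫ m.hom = β.hom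
    rw [hm', h2]
  · intro γ hγ
    refine Stk.EltObj.hom_ext ?_
    change γ.hom = c
    have h3 : γ.hom ≫ m.hom = β.hom := congrArg Stk.EltObj.Hom.hom hγ
    rw [hm'] at h3
    apply (yon S).map_injective
    apply sq.hom_ext
    · rw [hc, sq.lift_fst, ← hη', toMap_comp]
    · rw [hc, sq.lift_snd, ← Functor.map_comp, h3]

/-- (C) base change of an affine étale chart along a finite morphism of spaces. -/
theorem exists_finLev {S : Scheme.{u}} {M' M : Space S} (g : M'.obj ⟶ M.obj) (hg : AlgSp.IsFiniteMor g)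
    (E : EtOver M.obj) (hE : IsAffine E.obj.left.left) :
    ∃ (E' : EtOver M'.obj) (m : (ofSpMap g).obj (etaOf E') ⟶ etaOf E), IsAffine E'.obj.left.left ∧ IsFinite m.hom.left ∧
      ∀ (T : (ofSp M'.obj).obj) (β : (ofSpMap g).obj T ⟶ etaOf E), ∃! γ : T ⟶ etaOf E', (ofSpMap g).map γ ≫ m = β := by
  have key : ∀ (η : (ofSp M.obj).obj), IsEt η → IsAffine η.base.left → ∃ (η' : (ofSp M'.obj).obj) (m : (ofSpMap g).obj η' ⟶ η),
      IsEt η' ∧ IsAffine η'.base.left ∧ IsFinite m.hom.left ∧
      ∀ (T : (ofSp M'.obj).obj) (β : (ofSpMap g).obj T ⟶ η), ∃! γ : T ⟶ η', (ofSpMap g).map γ ≫ m = β := by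
    intro η hη ha
    obtain ⟨W, i, fst, sq, hW, hi⟩ := hg ha (toMap η)
    have hf : RepWith @Etale fst := MorphismProperty.of_isPullback sq.flip hη
    obtain ⟨η', hb, m, h1, h2, h3⟩ := exists_of_isPullback sq
    subst hb
    rw [eqToHom_refl, CategoryTheory.Functor.map_id, Category.id_comp] at h1
    rw [eqToHom_refl, Category.id_comp] at h2
    refine ⟨η', m, ?_, hW, ?_, h3⟩
    · unfold IsEt
      rw [h1]
      exact hf
    · rw [h2]
      exact hi
  obtain ⟨η', m, h1, h2, h3, h4⟩ := key (etaOf E) (isEt_etaOf E) hE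
  obtain ⟨E', rfl⟩ := exists_etaOf h1
  exact ⟨E', m, h2, h3, h4⟩

end K872.FinLev
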