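import Mathlib

/-!
# Minimal closed saturated subsets of a Noetherian space with an open equivalence relation

* `exists_open_inter_closure`: a nonempty constructible set contains a nonempty open part of its closure;
* `exists_minimal_fibre`: `π : U → Q` a map of sets from a Noetherian `T0` space whose kernel is the image of
  two open continuous maps `s t : R → U` with `s (t ⁻¹ u)` constructible for closed points `u`: every nonempty closed
  saturated subset contains a closed fibre of `π`.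
-/

set_option autoImplicit false

open Topology Set TopologicalSpace

namespace K872.TopLem

/-- The set `A` contains an open dense part of its closure. -/
def Dn {X : Type*} [TopologicalSpace X] (A : Set X) : Prop :=
  ∀ V : Set X, IsOpen V → (V ∩ closure A).Nonempty → ∃ V' : Set X, V' ⊆ V ∧ IsOpen V' ∧ (V' ∩ closure A).Nonempty ∧
    V' ∩ closure A ⊆ A

theorem Dn.union_aux {X : Type*} [TopologicalSpace X] {A B : Set X} (hA : Dn A) (hB : Dn B) {V : Set X} (hV : IsOpen V)
    (h : (V ∩ closure A).Nonempty) : ∃ V' : Set X, V' ⊆ V ∧ IsOpen V' ∧ (V' ∩ closure (A ∪ B)).Nonempty ∧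
    V' ∩ closure (A ∪ B) ⊆ A ∪ B := by
  obtain ⟨V₁, h1, h2, h3, h4⟩ := hA V hV h
  by_cases hb : (V₁ ∩ closure B).Nonempty
  · obtain ⟨V₂, g1, g2, g3, g4⟩ := hB V₁ h2 hb
    refine ⟨V₂, g1.trans h1, g2, ?_, ?_⟩
    · rw [closure_union]; exact g3.mono (inter_subset_inter_right _ subset_union_right)
    · rw [closure_union, inter_union_distrib_left]
      exact union_subset_union ((inter_subset_inter_left _ g1).trans h4) g4
  · refine ⟨V₁, h1, h2, ?_, ?_⟩
    · rw [closure_union]; exact h3.mono (inter_subset_inter_right _ subset_union_left)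
    · rw [closure_union, inter_union_distrib_left, not_nonempty_iff_eq_empty.1 hb, union_empty]
      exact h4.trans subset_union_left

theorem Dn.union {X : Type*} [TopologicalSpace X] {A B : Set X} (hA : Dn A) (hB : Dn B) : Dn (A ∪ B) := by
  intro V hV h
  rw [closure_union, inter_union_distrib_left] at h
  obtain ⟨x, hx | hx⟩ := h
  · exact hA.union_aux hB hV ⟨x, hx⟩
  · rw [union_comm]
    exact hB.union_aux hA hV ⟨x, hx⟩

theorem dn_sdiff {X : Type*} [TopologicalSpace X] {U W : Set X} (hU : IsOpen U) (hW : IsOpen W) : Dn (U \ W) := by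
  intro V hV h
  refine ⟨V ∩ U, inter_subset_left, hV.inter hU, ?_, ?_⟩
  · obtain ⟨x, hx1, hx2⟩ := h
    obtain ⟨y, hy1, hy2⟩ := mem_closure_iff.1 hx2 V hV hx1
    exact ⟨y, ⟨hy1, hy2.1⟩, subset_closure hy2⟩
  · rintro x ⟨⟨-, hx1⟩, hx2⟩
    refine ⟨hx1, ?_⟩
    have : closure (U \ W) ⊆ Wᶜ := closure_minimal (fun y hy => hy.2) hW.isClosed_compl
    exact this hx2

theorem dn_of_isConstructible {X : Type*} [TopologicalSpace X] {A : Set X} (hA : IsConstructible A) : Dn A := by
  unfold IsConstructible at hA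
  induction A, hA using BooleanSubalgebra.closure_sdiff_sup_induction with
  | isSublattice =>
    exact ⟨fun s hs t ht ↦ ⟨hs.1.union ht.1, hs.2.union ht.2⟩,
      fun s hs t ht ↦ ⟨hs.1.inter ht.1, hs.2.inter_isOpen ht.2 ht.1⟩⟩
  | bot_mem => exact ⟨isOpen_empty, .empty⟩
  | top_mem => exact ⟨isOpen_univ, .univ⟩
  | sdiff U hU V hV => exact dn_sdiff hU.1 hV.1
  | sup s _ t _ hs' ht' => exact Dn.union hs' ht'

theorem exists_open_inter_closure {X : Type*} [TopologicalSpace X] {A : Set X} (hA : IsConstructible A)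
    (hne : A.Nonempty) : ∃ V : Set X, IsOpen V ∧ (V ∩ closure A).Nonempty ∧ V ∩ closure A ⊆ A := by
  obtain ⟨V, -, h⟩ := dn_of_isConstructible hA univ isOpen_univ (by simpa using hne)
  exact ⟨V, h⟩

section

variable {U R Q : Type*} [TopologicalSpace U] [TopologicalSpace R] {s t : R → U} {π : U → Q}

/-- The closure of a saturated set is saturated. -/
theorem sat_closure (hs : IsOpenMap s) (hsc : Continuous s) (htc : Continuous t)
    (hπ : ∀ u u', π u = π u' ↔ ∃ z, s z = u ∧ t z = u') {A : Set U} (hA : ∀ u u', π u = π u' → u ∈ A → u' ∈ A)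
    (u u' : U) (h : π u = π u') (hu : u ∈ closure A) : u' ∈ closure A := by
  obtain ⟨z, rfl, rfl⟩ := (hπ u u').1 h
  have h1 : z ∈ closure (s ⁻¹' A) := by
    rw [← hs.preimage_closure_eq_closure_preimage hsc]; exact hu
  have h2 : s ⁻¹' A ⊆ t ⁻¹' closure A := fun w hw =>
    subset_closure (hA (s w) (t w) ((hπ _ _).2 ⟨w, rfl, rfl⟩) hw)
  exact closure_minimal h2 (isClosed_closure.preimage htc) h1

theorem exists_minimal_fibre [NoetherianSpace U] [T0Space U] (hs : IsOpenMap s) (hsc : Continuous s)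
    (htc : Continuous t) (hπ : ∀ u u', π u = π u' ↔ ∃ z, s z = u ∧ t z = u')
    (hcons : ∀ u : U, IsClosed {u} → IsConstructible (s '' (t ⁻¹' {u})))
    {C₀ : Set U} (hC₀ : IsClosed C₀) (hne : C₀.Nonempty) (hsat : ∀ u u', π u = π u' → u ∈ C₀ → u' ∈ C₀) :
    ∃ u ∈ C₀, IsClosed (π ⁻¹' {π u}) := by
  let T : Set (Closeds U) := {C | (C : Set U).Nonempty ∧ (C : Set U) ⊆ C₀ ∧
    ∀ u u', π u = π u' → u ∈ (C : Set U) → u' ∈ (C : Set U)}
  have hT : T.Nonempty := ⟨⟨C₀, hC₀⟩, hne, subset_rfl, hsat⟩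
  obtain ⟨C, ⟨hC1, hC2, hC3⟩, hC4⟩ := WellFounded.has_min (wellFounded_lt (α := Closeds U)) T hT
  have hmin : ∀ D : Set U, IsClosed D → D.Nonempty → D ⊆ C → (∀ u u', π u = π u' → u ∈ D → u' ∈ D) → D = C := by
    intro D h1 h2 h3 h4
    by_contra hne
    exact hC4 ⟨D, h1⟩ ⟨h2, h3.trans hC2, h4⟩ (lt_of_le_of_ne (show (⟨D, h1⟩ : Closeds U) ≤ C from h3)
      (fun e => hne (congrArg (fun E : Closeds U => (E : Set U)) e)))
  obtain ⟨u, huC, hu⟩ := IsClosed.exists_closed_singleton C.isClosed hC1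
  have hfib : ∀ v ∈ (C : Set U), closure (π ⁻¹' {π v}) = C := by
    intro v hv
    refine hmin _ isClosed_closure ⟨v, subset_closure rfl⟩ ?_ ?_
    · exact closure_minimal (fun w hw => hC3 v w (show π v = π w from (show π w = π v from hw).symm) hv) C.isClosed
    · exact sat_closure hs hsc htc hπ (fun a b hab ha => by
        change π b = π v
        rw [← hab]; exact ha)
  refine ⟨u, hC2 huC, ?_⟩
  have hA : s '' (t ⁻¹' {u}) = π ⁻¹' {π u} := by
    ext w
    constructor
    · rintro ⟨z, hz, rfl⟩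
      exact (hπ _ _).2 ⟨z, rfl, hz⟩
    · intro hw
      obtain ⟨z, h1, h2⟩ := (hπ w u).1 hw
      exact ⟨z, h2, h1⟩
  obtain ⟨V, hV, ⟨v, hv1, hv2⟩, hV3⟩ := exists_open_inter_closure (hcons u hu) (by rw [hA]; exact ⟨u, rfl⟩)
  rw [hA, hfib u huC] at hv2 hV3
  have hCA : (C : Set U) ⊆ π ⁻¹' {π u} := by
    intro u' hu'
    have h1 : v ∈ closure (π ⁻¹' {π u'}) := by rw [hfib u' hu']; exact hv2
    obtain ⟨w, hw1, hw2⟩ := mem_closure_iff.1 h1 V hV hv1
    have hw3 : w ∈ (C : Set U) := hC3 u' w (show π u' = π w from (show π w = π u' from hw2).symm) hu'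
    have hw4 : π w = π u := hV3 ⟨hw1, hw3⟩
    change π u' = π u
    rw [← hw4]; exact (show π w = π u' from hw2).symm
  have : π ⁻¹' {π u} = (C : Set U) := by
    apply subset_antisymm _ hCA
    rw [← hfib u huC]; exact subset_closure
  rw [this]; exact C.isClosed

end

end K872.TopLem
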