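import Groth.Agent.StMod.K907.Closed
import Groth.Agent.StMod.K872.TopLem

/-!
# Closed points of `|𝒳|` for a stack with a Noetherian affine presentation

* `exists_closed_point`: every nonempty closed subset of `|𝒳|` contains a closed point.
-/

set_option autoImplicit false
set_option backward.isDefEq.respectTransparency false
set_option backward.isDefEq.respectTransparency.types false

universe w v u

open CategoryTheory CategoryTheory.Limits AlgebraicGeometry Opposite StMod AlgSt Topology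

namespace K872.ClosedPt

open K907.Atl K907.Pt K907.Closed K906.Grpd

variable {S : Scheme.{u}} {𝒳 : BasedCategory.{v, w} (Over S)}

/-- Every field-valued point has an affine underlying scheme. -/
theorem isAffine_fpt (p : FPt 𝒳) : IsAffine (sch 𝒳 p.obj) := by
  have e : sch 𝒳 p.obj = Spec (CommRingCat.of p.K) := congrArg (fun T : Over S => T.left) p.lies
  rw [e]; infer_instance

/-- Every point of `|𝒳|` comes from the atlas. -/
theorem exists_pt_atlas (h𝒳 : FibCat.IsFibGrpd 𝒳.p) (P : K906.Pres 𝒳) (x : Points 𝒳) :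
    ∃ u : ↥(sch 𝒳 P.ζ), pt h𝒳 P.ζ u = x := by
  obtain ⟨p, rfl⟩ := exists_rep x
  obtain ⟨z', f, d, h1, h2, h3⟩ := P.cov p.obj (isAffine_fpt p)
  obtain ⟨t', ht'⟩ := (bmap 𝒳 f).surjective (ptt p)
  refine ⟨bmap 𝒳 d t', ?_⟩
  have e1 := mk_eq_pt h𝒳 p (𝟙 p.obj) (ptt p)
  rw [pt_map, ← pt_map h𝒳 f, ht', e1, pt_map]

/-- Two points of the atlas have the same image in `|𝒳|` iff they are related by the groupoid. -/
theorem pt_eq_pt_iff (h𝒳 : FibCat.IsFibGrpd 𝒳.p) (P : K906.Pres 𝒳) (u u' : ↥(sch 𝒳 P.ζ)) :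
    pt h𝒳 P.ζ u = pt h𝒳 P.ζ u' ↔ ∃ z : ↥(sch 𝒳 P.ρ), bmap 𝒳 P.s z = u ∧ bmap 𝒳 P.t z = u' := by
  constructor
  · intro h
    have h1 : FPt.Rel (fpt h𝒳 P.ζ u) (fpt h𝒳 P.ζ u') := (K735.Pts.mk_eq_mk_iff h𝒳).1 h
    obtain ⟨r, a, b, -⟩ := h1
    obtain ⟨z', f, e, g1, g2, g3, g4, g5⟩ := P.lift r.obj (a ≫ fptArr h𝒳 P.ζ u) (b ≫ fptArr h𝒳 P.ζ u')
      (isAffine_fpt r)
    obtain ⟨t', ht'⟩ := (bmap 𝒳 f).surjective (ptt r)
    refine ⟨bmap 𝒳 e t', ?_, ?_⟩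
    · have k1 : bmap 𝒳 P.s (bmap 𝒳 e t') = bmap 𝒳 (fptArr h𝒳 P.ζ u) (bmap 𝒳 a (bmap 𝒳 f t')) := by
        have k2 : bmap 𝒳 (e ≫ P.s) t' = bmap 𝒳 (f ≫ a ≫ fptArr h𝒳 P.ζ u) t' := by rw [g4]
        rw [bmap_comp, bmap_comp, bmap_comp] at k2
        exact k2
      rw [k1, eq_ptt _ (bmap 𝒳 a (bmap 𝒳 f t')), bmap_fptArr_ptt]
    · have k1 : bmap 𝒳 P.t (bmap 𝒳 e t') = bmap 𝒳 (fptArr h𝒳 P.ζ u') (bmap 𝒳 b (bmap 𝒳 f t')) := by
        have k2 : bmap 𝒳 (e ≫ P.t) t' = bmap 𝒳 (f ≫ b ≫ fptArr h𝒳 P.ζ u') t' := by rw [g5]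
        rw [bmap_comp, bmap_comp, bmap_comp] at k2
        exact k2
      rw [k1, eq_ptt _ (bmap 𝒳 b (bmap 𝒳 f t')), bmap_fptArr_ptt]
  · rintro ⟨z, rfl, rfl⟩
    rw [pt_map, pt_map]

/-- Every nonempty closed subset of `|𝒳|` contains a closed point. -/
theorem exists_closed_point {S : Scheme.{u}} {𝒳 : BasedCategory.{v, w} (Over S)} (h𝒳 : FibCat.IsFibGrpd 𝒳.p)
    (P : K906.Pres 𝒳) (hN : IsNoetherianRing Γ(StMod.sch 𝒳 P.ζ, ⊤)) (W : Set (AlgSt.Points 𝒳))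
    (hW : K907.Closed.IsCl h𝒳 W) (hne : W.Nonempty) : ∃ x ∈ W, K907.Closed.IsCl h𝒳 {x} := by
  have hζ := P.affζ
  have hρ := P.affρ
  have := P.smooth_s
  have := P.smooth_t
  have hnoe : TopologicalSpace.NoetherianSpace ↥(sch 𝒳 P.ζ) := by
    have : TopologicalSpace.NoetherianSpace (PrimeSpectrum Γ(sch 𝒳 P.ζ, ⊤)) := inferInstance
    exact (TopologicalSpace.noetherianSpace_iff_of_homeomorph (Scheme.homeoOfIso (sch 𝒳 P.ζ).isoSpec)).2 this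
  obtain ⟨x₀, hx₀⟩ := hne
  obtain ⟨u₀, rfl⟩ := exists_pt_atlas h𝒳 P x₀
  obtain ⟨u, hu, hcl⟩ := K872.TopLem.exists_minimal_fibre (π := pt h𝒳 P.ζ) (bmap 𝒳 P.s).isOpenMap (bmap 𝒳 P.s).continuous
    (bmap 𝒳 P.t).continuous (pt_eq_pt_iff h𝒳 P)
    (by
      intro u hu
      have h1 : IsConstructible ({u} : Set ↥(sch 𝒳 P.ζ)) := by
        have h2 : IsConstructible ({u}ᶜ : Set ↥(sch 𝒳 P.ζ)) :=
          (TopologicalSpace.NoetherianSpace.isCompact _).isConstructible hu.isOpen_compl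
        simpa using h2.compl
      have h3 : IsConstructible ((bmap 𝒳 P.t) ⁻¹' {u}) := by
        exact (bmap 𝒳 P.t).isConstructible_preimage h1
      exact (bmap 𝒳 P.s).isConstructible_image h3)
    (hW P.ζ hζ) ⟨u₀, hx₀⟩ (fun a b hab ha => by
      change pt h𝒳 P.ζ b ∈ W
      rw [← hab]; exact ha)
  refine ⟨pt h𝒳 P.ζ u, hu, isCl_of_atlas h𝒳 (smCov_of_pres.{0} P) fun _ => hcl⟩

end K872.ClosedPt
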