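import Groth.Agent.StMod.K862.Rep
import Groth.Agent.StMod.K907.Closed
import Groth.Agent.StMod.K907.Free
import Groth.Agent.Gerb.K895.Global
import Groth.Prelude.Def_StPt

/-!
# The universal arrow over a geometric point is an isomorphism

N8a of the Luna cluster (`isIso_str`), with N1 as a hypothesis.
-/

set_option autoImplicit false
set_option linter.unusedVariables false
set_option linter.style.haveILetI false
set_option backward.isDefEq.respectTransparency false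
set_option backward.isDefEq.respectTransparency.types false

universe v'' w'' v' w' v w u

open CategoryTheory CategoryTheory.Limits AlgebraicGeometry Opposite StMod AlgSt AlgSp

namespace K872.IsoStr


theorem bijective_of_unique {K A : Type u} [Field K] [IsAlgClosed K] [CommRing A] [Nontrivial A] [Algebra K A]
    [Module.Finite K A] [Algebra.FormallyUnramified K A] (h : ∀ φ ψ : A →ₐ[K] K, φ = ψ) :
    Function.Bijective (algebraMap K A) := by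
  have hred : IsReduced A := Algebra.FormallyUnramified.isReduced_of_field K A
  have hart : IsArtinianRing A := IsArtinianRing.of_finite K A
  obtain ⟨m₀, hm₀⟩ := Ideal.exists_maximal A
  have bij : ∀ (m : Ideal A), m.IsMaximal → Function.Bijective (algebraMap K (A ⧸ m)) := by
    intro m hm
    letI := Ideal.Quotient.field m
    have : Module.Finite K (A ⧸ m) := inferInstance
    exact IsAlgClosed.algebraMap_bijective_of_isIntegral
  have key : ∀ (m : Ideal A), m.IsMaximal → ∃ φ : A →ₐ[K] K, RingHom.ker φ = m := by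
    intro m hm
    let e : K ≃ₐ[K] (A ⧸ m) := AlgEquiv.ofBijective (Algebra.ofId K (A ⧸ m)) (bij m hm)
    refine ⟨e.symm.toAlgHom.comp (Ideal.Quotient.mkₐ K m), ?_⟩
    ext x
    rw [RingHom.mem_ker]
    change e.symm (Ideal.Quotient.mk m x) = 0 ↔ _
    rw [EmbeddingLike.map_eq_zero_iff, Ideal.Quotient.eq_zero_iff_mem]
  have huniq : ∀ (m : Ideal A), m.IsMaximal → m = m₀ := by
    intro m hm
    obtain ⟨φ, hφ⟩ := key m hm
    obtain ⟨ψ, hψ⟩ := key m₀ hm₀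
    rw [← hφ, ← hψ, h φ ψ]
  have hj : Ideal.jacobson (⊥ : Ideal A) = m₀ := by
    refine le_antisymm (sInf_le ⟨bot_le, hm₀⟩) (le_sInf ?_)
    rintro m ⟨-, hm⟩
    exact (huniq m hm).ge
  have hnil := IsArtinianRing.isNilpotent_jacobson_bot (R := A)
  rw [hj] at hnil
  have hbot : m₀ = ⊥ := by
    obtain ⟨n, hn⟩ := hnil
    rw [eq_bot_iff]
    intro x hx
    have h1 : x ^ n = 0 := by
      have := Ideal.pow_mem_pow hx n
      rw [hn] at this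
      exact this
    exact IsReduced.eq_zero x ⟨n, h1⟩
  refine ⟨(algebraMap K A).injective, fun a => ?_⟩
  obtain ⟨c, hc⟩ := (bij m₀ hm₀).2 (Ideal.Quotient.mk m₀ a)
  refine ⟨c, ?_⟩
  have h2 : Ideal.Quotient.mk m₀ (algebraMap K A c) = Ideal.Quotient.mk m₀ a := hc
  rw [Ideal.Quotient.eq, hbot] at h2
  exact sub_eq_zero.1 h2

theorem exists_hom_aff {R : Type u} [CommRing R] {V : Scheme.{u}} [IsAffine V] (g : Γ(V, ⊤) →+* R) :
    ∃ a : Spec (CommRingCat.of R) ⟶ V, a.appTop ≫ (Scheme.ΓSpecIso (CommRingCat.of R)).hom = CommRingCat.ofHom g := by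
  refine ⟨Spec.map (CommRingCat.ofHom g) ≫ V.isoSpec.inv, ?_⟩
  have h1 : V.isoSpec.inv.appTop ≫ (Scheme.ΓSpecIso (CommRingCat.of Γ(V, ⊤))).hom = 𝟙 _ := by
    have h2 : V.toSpecΓ.appTop = (Scheme.ΓSpecIso (CommRingCat.of Γ(V, ⊤))).hom := Scheme.toSpecΓ_appTop V
    rw [← h2, ← Scheme.Hom.comp_appTop]
    change (V.isoSpec.hom ≫ V.isoSpec.inv).appTop = _
    rw [Iso.hom_inv_id]
    rfl
  rw [Scheme.Hom.comp_appTop, Category.assoc, Scheme.ΓSpecIso_naturality, reassoc_of% h1]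

theorem isIso_of_unique {K : Type u} [Field K] [IsAlgClosed K] {V X : Scheme.{u}} (κ : Spec (CommRingCat.of K) ≅ X)
    (f : V ⟶ X) (hf : IsFinite f) (he : Etale f) (hne : Nonempty V)
    (h : ∀ a b : Spec (CommRingCat.of K) ⟶ V, a ≫ f = κ.hom → b ≫ f = κ.hom → a = b) : IsIso f := by
  let F : V ⟶ Spec (CommRingCat.of K) := f ≫ κ.inv
  have hF : IsFinite F := inferInstance
  have hF' : Etale F := inferInstance
  have : IsAffine V := isAffine_of_isAffineHom F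
  have hF2 : FormallyUnramified F := inferInstance
  let φ : K →+* Γ(V, ⊤) := F.appTop.hom.comp (Scheme.ΓSpecIso (CommRingCat.of K)).inv.hom
  letI : Algebra K Γ(V, ⊤) := φ.toAlgebra
  have hfin : Module.Finite K Γ(V, ⊤) := (Scheme.Hom.finite_appTop F).comp
    (RingHom.Finite.of_surjective _ (ConcreteCategory.bijective_of_isIso (Scheme.ΓSpecIso (CommRingCat.of K)).inv).2)
  have hunr : Algebra.FormallyUnramified K Γ(V, ⊤) :=
    RingHom.FormallyUnramified.respectsIso.2 F.appTop.hom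
      (Scheme.ΓSpecIso (CommRingCat.of K)).symm.commRingCatIsoToRingEquiv
      (HasRingHomProperty.appTop (P := @FormallyUnramified) F inferInstance)
  have hnt : Nontrivial Γ(V, ⊤) := by
    have : Nonempty (⊤ : V.Opens) := ⟨⟨hne.some, trivial⟩⟩
    infer_instance
  have hb : Function.Bijective φ := bijective_of_unique fun ψ₁ ψ₂ => by
    obtain ⟨a₁, h₁⟩ := exists_hom_aff ψ₁.toRingHom
    obtain ⟨a₂, h₂⟩ := exists_hom_aff ψ₂.toRingHom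
    have key : ∀ (ψ : Γ(V, ⊤) →ₐ[K] K) (a : Spec (CommRingCat.of K) ⟶ V)
        (_ : a.appTop ≫ (Scheme.ΓSpecIso (CommRingCat.of K)).hom = CommRingCat.ofHom ψ.toRingHom), a ≫ f = κ.hom := by
      intro ψ a ha
      have h1 : a ≫ F = 𝟙 _ := by
        refine ext_of_isAffine ?_
        rw [Scheme.Hom.comp_appTop, Scheme.Hom.id_appTop, ← cancel_mono (Scheme.ΓSpecIso (CommRingCat.of K)).hom,
          Category.assoc, ha, ← cancel_epi (Scheme.ΓSpecIso (CommRingCat.of K)).inv]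
        ext x
        have h2 : ψ (φ x) = x := ψ.commutes x
        simp only [CommRingCat.hom_comp, RingHom.comp_apply, CommRingCat.hom_ofHom]
        change ψ (φ x) = _
        rw [h2]
        simp
      have h2 := congrArg (fun t => t ≫ κ.hom) h1
      simpa [F] using h2
    have h3 : a₁ = a₂ := h a₁ a₂ (key _ a₁ h₁) (key _ a₂ h₂)
    rw [h3, h₂] at h₁
    ext x
    have h4 := congrArg (fun t => t.hom x) h₁
    exact h4.symm
  have : IsIso F.appTop := by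
    have h5 : IsIso (CommRingCat.ofHom φ) := (ConcreteCategory.isIso_iff_bijective _).2 hb
    have h6 : F.appTop = (Scheme.ΓSpecIso (CommRingCat.of K)).hom ≫ CommRingCat.ofHom φ := by
      ext x
      simp [φ]
    rw [h6]
    infer_instance
  have : IsIso F := by
    refine (MorphismProperty.arrow_mk_iso_iff (MorphismProperty.isomorphisms Scheme.{u}) (arrowIsoSpecΓOfIsAffine F)).2 ?_
    exact (MorphismProperty.isomorphisms.iff _).2 inferInstance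
  have e : f = F ≫ κ.hom := by simp [F]
  rw [e]
  infer_instance


section Main

open K906 K862.Rep K908.Aff K907.Pt K907.Closed K907.Free K907.Tens

variable {S : Scheme.{u}} {𝒴' : BasedCategory.{v', w'} (Over S)} {𝒴 : BasedCategory.{v, w} (Over S)}

/-- A refinement of a nonempty object with an arrow to the object of a given field-valued point. -/
theorem exists_common_arrow (h𝒴' : FibCat.IsFibGrpd 𝒴'.p) (x₀ : FPt 𝒴') {y : 𝒴'.obj} (t : ↥(sch 𝒴' y))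
    (ht : pt h𝒴' y t = Points.mk x₀) :
    ∃ (z : 𝒴'.obj) (_ : z ⟶ x₀.obj) (_ : z ⟶ y), Nonempty ↥(sch 𝒴' z) := by
  obtain ⟨r, a, b, -⟩ := (K735.Pts.mk_eq_mk_iff h𝒴' (p := fpt h𝒴' y t) (q := x₀)).1 ht
  exact ⟨r.obj, b, a ≫ fptArr h𝒴' y t, ⟨ptt r⟩⟩

/-- Two arrows over the same morphism differ by a vertical automorphism. -/
theorem exists_vert (h𝒴 : FibCat.IsFibGrpd 𝒴.p) {w u : 𝒴.obj} (a b : w ⟶ u) (h : bmap 𝒴 a = bmap 𝒴 b) :
    ∃ σ : w ⟶ w, 𝒴.p.map σ = 𝟙 _ ∧ σ ≫ a = b := by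
  obtain ⟨σ, ⟨h1, h2⟩, -⟩ := Grpd.existsUnique_hom h𝒴 a b (𝟙 _) (by
    rw [Category.id_comp]
    exact Over.OverMorphism.ext h)
  exact ⟨σ, h1, h2⟩

theorem eq_of_vert (h𝒴 : FibCat.IsFibGrpd 𝒴.p) (F : 𝒴' ⥤ᵇ 𝒴) {x₀ y z : 𝒴'.obj} {u : 𝒴.obj}
    (hst : StPt.IsStabIsoAt F x₀) {α : F.obj y ⟶ u} (hα : IsTerm F α) (χ : z ⟶ x₀) (φ₁ φ₂ : z ⟶ y)
    (h : bmap 𝒴' φ₁ ≫ str F α = bmap 𝒴' φ₂ ≫ str F α) : bmap 𝒴' φ₁ = bmap 𝒴' φ₂ := by
  have h1 : bmap 𝒴 (F.map φ₁ ≫ α) = bmap 𝒴 (F.map φ₂ ≫ α) := by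
    have h2 := str_map F φ₁ α
    have h3 := str_map F φ₂ α
    rw [h, ← h3, str_eq, str_eq, cancel_epi] at h2
    exact h2
  obtain ⟨σ, hσ, hσ'⟩ := exists_vert h𝒴 (F.map φ₁ ≫ α) (F.map φ₂ ≫ α) h1
  let σ' : Gerb.AutO (F.obj z) := K895.Global.mkAut h𝒴 σ (IsHomLift.of_fac' _ _ _ rfl rfl (by simpa using hσ))
  obtain ⟨τ, hτ⟩ := (hst χ).2 σ'
  have h4 : F.map τ.hom.1 = σ := congrArg (fun t : Gerb.AutO (F.obj z) => t.hom.1) hτ
  have h5 : τ.hom.1 ≫ φ₁ = φ₂ := by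
    refine hom_eq hα ?_
    rw [Functor.map_comp, Category.assoc]
    rw [h4]
    exact hσ'
  have h6 : 𝒴'.p.map τ.hom.1 = 𝟙 _ := by
    have hl : 𝒴'.p.IsHomLift (𝟙 (𝒴'.p.obj z)) τ.hom.1 := τ.hom.2
    have := IsHomLift.fac' 𝒴'.p (𝟙 (𝒴'.p.obj z)) τ.hom.1
    simpa using this
  rw [← h5, bmap_comp]
  have h7 : bmap 𝒴' τ.hom.1 = 𝟙 _ := congrArg (fun t => t.left) h6
  rw [h7, Category.id_comp]

/-- (N8a), with (N1) as a hypothesis. -/
theorem isIso_str' (h𝒴' : FibCat.IsFibGrpd 𝒴'.p) (h𝒴 : FibCat.IsFibGrpd 𝒴.p) (F : 𝒴' ⥤ᵇ 𝒴)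
    (x₀ : FPt 𝒴') (hst : StPt.IsStabIsoAt F x₀.obj)
    {K : Type u} [Field K] [IsAlgClosed K] {u : 𝒴.obj} (κ : Spec (CommRingCat.of K) ≅ sch 𝒴 u) {y : 𝒴'.obj} (α : F.obj y ⟶ u)
    (hα : IsTerm F α) (hf : IsFinite (str F α)) (he : Etale (str F α)) (hne : Nonempty ↥(sch 𝒴' y))
    (hpt : ∀ t : ↥(sch 𝒴' y), pt h𝒴' y t = Points.mk x₀)
    (hN : ∀ a₁ a₂ : Spec (CommRingCat.of K) ⟶ sch 𝒴' y, a₁ ≫ str F α = κ.hom → a₂ ≫ str F α = κ.hom →
      ∃ (z : 𝒴'.obj) (φ₁ : z ⟶ y) (φ₂ : z ⟶ y) (r : sch 𝒴' z ⟶ Spec (CommRingCat.of K)),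
        Nonempty ↥(sch 𝒴' z) ∧ bmap 𝒴' φ₁ = r ≫ a₁ ∧ bmap 𝒴' φ₂ = r ≫ a₂) :
    IsIso (str F α) := by
  have hKa : IsAffine (sch 𝒴 u) := IsAffine.of_isIso κ.inv
  have hVa : IsAffine (sch 𝒴' y) := isAffine_of_isAffineHom (str F α)
  refine isIso_of_unique κ (str F α) hf he hne fun a₁ a₂ h₁ h₂ => ?_
  obtain ⟨z, φ₁, φ₂, r, hz, e₁, e₂⟩ := hN a₁ a₂ h₁ h₂
  obtain ⟨t⟩ := hz
  have ht : pt h𝒴' z t = Points.mk x₀ := by
    rw [← pt_map h𝒴' φ₁ t]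
    exact hpt _
  obtain ⟨z', χ, ψ, hz'⟩ := exists_common_arrow h𝒴' x₀ t ht
  have h3 : bmap 𝒴' (ψ ≫ φ₁) = bmap 𝒴' (ψ ≫ φ₂) := by
    refine eq_of_vert h𝒴 F hst hα χ _ _ ?_
    rw [bmap_comp, bmap_comp, e₁, e₂, Category.assoc, Category.assoc, Category.assoc, Category.assoc, h₁, h₂]
  rw [bmap_comp, bmap_comp, e₁, e₂, ← Category.assoc, ← Category.assoc] at h3
  refine ext_of_isAffine ?_
  have h4 := congrArg (fun t => t.appTop) h3
  simp only [Scheme.Hom.comp_appTop] at h4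
  have hinj : Function.Injective (bmap 𝒴' ψ ≫ r).appTop := by
    have : Nontrivial Γ(sch 𝒴' z', ⊤) := by
      have : Nonempty (⊤ : (sch 𝒴' z').Opens) := ⟨⟨hz'.some, trivial⟩⟩
      infer_instance
    have h5 : Function.Injective ((bmap 𝒴' ψ ≫ r).appTop.hom.comp (Scheme.ΓSpecIso (CommRingCat.of K)).inv.hom :
      K →+* Γ(sch 𝒴' z', ⊤)) := RingHom.injective _
    intro a b hab
    have h6 : (Scheme.ΓSpecIso (CommRingCat.of K)).hom a = (Scheme.ΓSpecIso (CommRingCat.of K)).hom b := by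
      refine h5 ?_
      simpa using hab
    exact (ConcreteCategory.bijective_of_isIso (Scheme.ΓSpecIso (CommRingCat.of K)).hom).1 h6
  ext x
  refine hinj ?_
  have h7 := congrArg (fun t => t.hom x) h4
  simpa using h7

/-- The statement of (N1). -/
def N1 (S : Scheme.{u}) : Prop :=
  ∀ {𝒴 : BasedCategory.{v, w} (Over S)} (h𝒴 : FibCat.IsFibGrpd 𝒴.p) (P : Pres 𝒴)
    {B : Type u} [CommRing B] (s : Fn B 𝒴) (hs : IsFn s) (hex : K907.Free.Exact 𝒴) (x : Points 𝒴) (hx : IsCl h𝒴 {x})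
    {K : Type u} [Field K] (y₁ y₂ : 𝒴.obj) (h₁ : IsAffine (sch 𝒴 y₁)) (h₂ : IsAffine (sch 𝒴 y₂))
    (a₁ : Spec (CommRingCat.of K) ⟶ sch 𝒴 y₁) (a₂ : Spec (CommRingCat.of K) ⟶ sch 𝒴 y₂)
    (hx₁ : pt h𝒴 y₁ (a₁ (IsLocalRing.closedPoint K)) = x) (hx₂ : pt h𝒴 y₂ (a₂ (IsLocalRing.closedPoint K)) = x)
    (hB : ∀ b : B, a₁.appTop (s.σ y₁ b) = a₂.appTop (s.σ y₂ b)),
    ∃ (z : 𝒴.obj) (φ₁ : z ⟶ y₁) (φ₂ : z ⟶ y₂) (r : sch 𝒴 z ⟶ Spec (CommRingCat.of K)), IsAffine (sch 𝒴 z) ∧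
      Nonempty ↥(sch 𝒴 z) ∧ bmap 𝒴 φ₁ = r ≫ a₁ ∧ bmap 𝒴 φ₂ = r ≫ a₂

/-- (N8a) -/
theorem isIso_str {S : Scheme.{u}} (hN1 : N1.{v', w', u} S) {𝒴' : BasedCategory.{v', w'} (Over S)} {𝒴 : BasedCategory.{v, w} (Over S)}
    (h𝒴' : FibCat.IsFibGrpd 𝒴'.p) (h𝒴 : FibCat.IsFibGrpd 𝒴.p) (P' : Pres 𝒴')
    {B : Type u} [CommRing B] (s : Fn B 𝒴') (hs : IsFn s) (hex : K907.Free.Exact 𝒴') (F : 𝒴' ⥤ᵇ 𝒴)
    (x₀ : FPt 𝒴') (hst : StPt.IsStabIsoAt F x₀.obj) (hx : IsCl h𝒴' {Points.mk x₀})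
    {K : Type u} [Field K] [IsAlgClosed K] {u : 𝒴.obj} (κ : Spec (CommRingCat.of K) ≅ sch 𝒴 u) {y : 𝒴'.obj} (α : F.obj y ⟶ u)
    (hα : IsTerm F α) (hf : IsFinite (str F α)) (he : Etale (str F α)) (hne : Nonempty ↥(sch 𝒴' y))
    (hpt : ∀ t : ↥(sch 𝒴' y), pt h𝒴' y t = Points.mk x₀)
    (hB : ∀ a₁ a₂ : Spec (CommRingCat.of K) ⟶ sch 𝒴' y, a₁ ≫ str F α = κ.hom → a₂ ≫ str F α = κ.hom →
      ∀ b : B, a₁.appTop (s.σ y b) = a₂.appTop (s.σ y b)) :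
    IsIso (str F α) := by
  have hKa : IsAffine (sch 𝒴 u) := IsAffine.of_isIso κ.inv
  have hVa : IsAffine (sch 𝒴' y) := isAffine_of_isAffineHom (str F α)
  refine isIso_str' h𝒴' h𝒴 F x₀ hst κ α hα hf he hne hpt fun a₁ a₂ e₁ e₂ => ?_
  obtain ⟨z, φ₁, φ₂, r, -, h1, h2, h3⟩ := hN1 h𝒴' P' s hs hex _ hx y y hVa hVa a₁ a₂ (hpt _) (hpt _) (hB a₁ a₂ e₁ e₂)
  exact ⟨z, φ₁, φ₂, r, h1, h2, h3⟩

end Main

end K872.IsoStr
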