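import Groth.Agent.StMod.K862.FSq
import Groth.Agent.CurvSt.K901.OpenSub
import Groth.Agent.AlgSp.K630.Kit
import Groth.Agent.AlgSp.K613.Basic
import Groth.Agent.S10195
import Groth.Agent.S10196

/-!
# From a chart of good moduli squares to an open version

`exists_open_of_chart` (N3 of the Luna cluster): if over etale charts `E' ≅ E` the functor between the fibre categories is an
isomorphism, then over the open image `U'` of `E'` the square is cartesian and `U' ⟶ X` is etale.  The assembly statement (N2) is a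
hypothesis `N2 S`.

* `secOf`, `exists_arr_iff`, `exists_obj_iff` : arrows and objects of `ofSp M` through sections;
* `isRep_transfer`, `transfer` : the functor of fibre categories for the restricted square;
* `openLocus_QQ` : the locus over an open subspace is open;
* `exists_open_image`, `isQuasiSeparatedSp_of_open`, `etaOf_eq`, `exists_nbhd`.
-/

set_option autoImplicit false
set_option linter.unusedVariables false
set_option linter.style.haveILetI false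
set_option backward.isDefEq.respectTransparency false
set_option backward.isDefEq.respectTransparency.types false

universe v'' w'' v' w' v w u

open CategoryTheory CategoryTheory.Limits AlgebraicGeometry Opposite StMod AlgSt AlgSp

namespace K872.OpenChart

open K906 K862.Rep K862.FSq K908.Aff

variable {S : Scheme.{u}} {𝒳 : BasedCategory.{v, w} (Over S)} {𝒴 : BasedCategory.{v', w'} (Over S)}

/-- Restriction of a section of a sheaf along a morphism. -/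
def rs (M : Sp S) {A B : Over S} (f : A ⟶ B) (s : M.obj.obj (op B)) : M.obj.obj (op A) := M.obj.map f.op s

theorem rs_rs (M : Sp S) {A B C : Over S} (f : A ⟶ B) (g : B ⟶ C) (s : M.obj.obj (op C)) :
    rs M f (rs M g s) = rs M (f ≫ g) s := by
  unfold rs
  rw [← Functor.map_comp_apply, ← op_comp]

theorem rs_id (M : Sp S) {A : Over S} (s : M.obj.obj (op A)) : rs M (𝟙 A) s = s := by
  unfold rs
  simp

theorem app_rs {M N : Sp S} (g : M ⟶ N) {A B : Over S} (f : A ⟶ B) (s : M.obj.obj (op B)) :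
    g.hom.app _ (rs M f s) = rs N f (g.hom.app _ s) := NatTrans.naturality_apply g.hom f.op s

/-- The section of `M` over the base of `ξ` given by `π ξ`. -/
def secOf {M : Sp S} (π : 𝒳 ⥤ᵇ ofSp M) (ξ : 𝒳.obj) : M.obj.obj (op (𝒳.p.obj ξ)) :=
  rs M (eqToHom (π.w_obj ξ).symm : 𝒳.p.obj ξ ⟶ (π.obj ξ).base) (π.obj ξ).sec

theorem obj_eq {M : Sp S} (π : 𝒳 ⥤ᵇ ofSp M) (ξ : 𝒳.obj) : π.obj ξ = (⟨𝒳.p.obj ξ, secOf π ξ⟩ : (ofSp M).obj) := by
  have h : (π.obj ξ).base = 𝒳.p.obj ξ := π.w_obj ξ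
  have key : ∀ (a : (ofSp M).obj) (T : Over S) (h : a.base = T),
      a = (⟨T, rs M (eqToHom h.symm) a.sec⟩ : (ofSp M).obj) := by
    rintro ⟨b, s⟩ T h
    dsimp only at h
    subst h
    rw [eqToHom_refl, rs_id]
  exact key _ _ h

theorem map_eq (π : 𝒳 ⥤ᵇ 𝒴) {ξ' ξ : 𝒳.obj} (φ : ξ' ⟶ ξ) :
    𝒴.p.map (π.map φ) = eqToHom (π.w_obj ξ') ≫ 𝒳.p.map φ ≫ eqToHom (π.w_obj ξ).symm :=
  IsHomLift.fac' 𝒴.p (𝒳.p.map φ) (π.map φ)

theorem map_secOf {M : Sp S} (π : 𝒳 ⥤ᵇ ofSp M) {ξ' ξ : 𝒳.obj} (φ : ξ' ⟶ ξ) :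
    rs M (𝒳.p.map φ) (secOf π ξ) = secOf π ξ' := by
  have h1 : rs M (π.map φ).hom (π.obj ξ).sec = (π.obj ξ').sec := (π.map φ).map_sec
  have h2 : (π.map φ).hom = eqToHom (π.w_obj ξ') ≫ 𝒳.p.map φ ≫ eqToHom (π.w_obj ξ).symm := map_eq π φ
  unfold secOf
  rw [← h1, rs_rs, rs_rs, h2]
  congr 1
  simp

/-- Arrows of `ofSp M` out of `π ξ` are determined by the base morphism. -/
theorem arr_ext {M : Sp S} (π : 𝒳 ⥤ᵇ ofSp M) {ξ : 𝒳.obj} {η : (ofSp M).obj} {α α' : π.obj ξ ⟶ η}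
    (h : baseOver π ξ α = baseOver π ξ α') : α = α' := by
  refine Stk.EltObj.hom_ext ?_
  exact (cancel_epi _).1 h

theorem exists_arr_iff {M : Sp S} (π : 𝒳 ⥤ᵇ ofSp M) {ξ : 𝒳.obj} {η : (ofSp M).obj} (b : 𝒳.p.obj ξ ⟶ η.base) :
    (∃ α : π.obj ξ ⟶ η, baseOver π ξ α = b) ↔ rs M b η.sec = secOf π ξ := by
  constructor
  · rintro ⟨α, rfl⟩
    have h1 : rs M α.hom η.sec = (π.obj ξ).sec := α.map_sec
    unfold secOf
    rw [← h1, rs_rs]
    rfl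
  · intro h
    refine ⟨⟨eqToHom (π.w_obj ξ) ≫ b, ?_⟩, ?_⟩
    · change rs M (eqToHom (π.w_obj ξ) ≫ b) η.sec = _
      rw [← rs_rs, h]
      unfold secOf
      rw [rs_rs, eqToHom_trans, eqToHom_refl, rs_id]
    · change eqToHom _ ≫ eqToHom _ ≫ b = b
      simp

theorem secOf_comp {M N : Sp S} (ρ : 𝒳 ⥤ᵇ ofSp M) (g : M ⟶ N) (ξ : 𝒳.obj) :
    secOf (BasedFunctor.comp ρ (ofSpMap g)) ξ = g.hom.app _ (secOf ρ ξ) :=
  (app_rs g _ _).symm

/-- The condition that `π ξ` comes from `U'`, on sections. -/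
theorem exists_obj_iff {M N : Sp S} (π : 𝒳 ⥤ᵇ ofSp N) (g : M ⟶ N) (ξ : 𝒳.obj) :
    (∃ η : (ofSp M).obj, (ofSpMap g).obj η = π.obj ξ) ↔ ∃ s : M.obj.obj (op (𝒳.p.obj ξ)), g.hom.app _ s = secOf π ξ := by
  constructor
  · rintro ⟨⟨T, s⟩, h⟩
    rw [obj_eq π ξ] at h
    have h1 : (⟨T, g.hom.app _ s⟩ : (ofSp N).obj) = ⟨𝒳.p.obj ξ, secOf π ξ⟩ := h
    injection h1 with h2 h3
    subst h2
    exact ⟨s, eq_of_heq h3⟩
  · rintro ⟨s, hs⟩
    refine ⟨⟨_, s⟩, ?_⟩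
    rw [obj_eq π ξ, ← hs]
    rfl

section Transfer

variable {𝒳' : BasedCategory.{v, w} (Over S)} {𝒳 : BasedCategory.{v', w'} (Over S)} {U' X' X : Sp S}
  {π' : 𝒳' ⥤ᵇ ofSp X'} {π : 𝒳 ⥤ᵇ ofSp X} {f : 𝒳' ⥤ᵇ 𝒳} {g : X' ⟶ X}
  (e : BasedFunctor.comp f π ≅ BasedFunctor.comp π' (ofSpMap g)) {ι : U' ⟶ X'}
  (hi : ∀ T, Function.Injective (ι.hom.app T))

/-- The objects of `𝒳'` over `U'`. -/
abbrev QQ (π' : 𝒳' ⥤ᵇ ofSp X') (ι : U' ⟶ X') (ξ : 𝒳'.obj) : Prop := ∃ η : (ofSp U').obj, (ofSpMap ι).obj η = π'.obj ξ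

variable {ρ : fullSub 𝒳' (QQ π' ι) ⥤ᵇ ofSp U'}
  (hρ : BasedFunctor.comp ρ (ofSpMap ι) = BasedFunctor.comp (subIncl 𝒳' (QQ π' ι)) π')

include hρ in
theorem secOf_rho (ξ : (fullSub 𝒳' (QQ π' ι)).obj) : ι.hom.app _ (secOf ρ ξ) = secOf π' ξ.obj := by
  have h : ∀ (F : fullSub 𝒳' (QQ π' ι) ⥤ᵇ ofSp X') (h : F = BasedFunctor.comp (subIncl 𝒳' (QQ π' ι)) π'),
      secOf F ξ = secOf π' ξ.obj := by
    rintro _ rfl
    rfl
  rw [← h _ hρ, secOf_comp]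

include hi hρ in
theorem up {η₁ : (ofSp U').obj} (ξ : 𝒳'.obj) (β : π'.obj ξ ⟶ (ofSpMap ι).obj η₁) :
    ∃ (hQ : QQ π' ι ξ) (β₁ : ρ.obj ⟨ξ, hQ⟩ ⟶ η₁), baseOver ρ _ β₁ = baseOver π' ξ β := by
  have h1 : rs X' (baseOver π' ξ β) (ι.hom.app _ η₁.sec) = secOf π' ξ := (exists_arr_iff π' _).1 ⟨β, rfl⟩
  rw [← app_rs] at h1
  have hQ : QQ π' ι ξ := (exists_obj_iff π' ι ξ).2 ⟨_, h1⟩
  refine ⟨hQ, (exists_arr_iff ρ _).2 (hi _ ?_)⟩
  exact h1.trans (secOf_rho hρ ⟨ξ, hQ⟩).symm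

include hρ in
theorem down {η₁ : (ofSp U').obj} (ξ : (fullSub 𝒳' (QQ π' ι)).obj) (β₁ : ρ.obj ξ ⟶ η₁) :
    ∃ β : π'.obj ξ.obj ⟶ (ofSpMap ι).obj η₁, baseOver π' _ β = baseOver ρ ξ β₁ := by
  have h1 : rs U' (baseOver ρ ξ β₁) η₁.sec = secOf ρ ξ := (exists_arr_iff ρ _).1 ⟨β₁, rfl⟩
  refine (exists_arr_iff π' _).2 ?_
  rw [← secOf_rho hρ, ← h1]
  exact (app_rs ι _ _).symm

variable (e' : BasedFunctor.comp (BasedFunctor.comp (subIncl 𝒳' (QQ π' ι)) f) π ≅ BasedFunctor.comp ρ (ofSpMap (ι ≫ g)))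

theorem arr_eq {η₁ : (ofSp U').obj} {ζ : (ofSp X).obj} (m : (ofSpMap g).obj ((ofSpMap ι).obj η₁) ⟶ ζ)
    (m₁ : (ofSpMap (ι ≫ g)).obj η₁ ⟶ ζ) (hm : m₁.hom = m.hom)
    (ξ : (fullSub 𝒳' (QQ π' ι)).obj) (β₁ : ρ.obj ξ ⟶ η₁) (β : π'.obj ξ.obj ⟶ (ofSpMap ι).obj η₁)
    (h : baseOver π' _ β = baseOver ρ ξ β₁) :
    (eArr e' ξ ≫ (ofSpMap (ι ≫ g)).map β₁ ≫ m₁ :
      π.obj (f.obj ξ.obj) ⟶ ζ) = eArr e ξ.obj ≫ (ofSpMap g).map β ≫ m := by
  refine arr_ext π ?_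
  have h1 := baseOver_eArr e' ξ ((ofSpMap (ι ≫ g)).map β₁ ≫ m₁)
  have h2 := baseOver_eArr e ξ.obj ((ofSpMap g).map β ≫ m)
  have h3 : baseOver (ofSpMap (ι ≫ g)) (ρ.obj ξ) ((ofSpMap (ι ≫ g)).map β₁ ≫
      m₁) = β₁.hom ≫ m₁.hom := Category.id_comp _
  have h4 : baseOver (ofSpMap g) (π'.obj ξ.obj) ((ofSpMap g).map β ≫ m) = β.hom ≫ m.hom := Category.id_comp _
  rw [h3, hm] at h1
  rw [h4] at h2
  refine h1.trans (Eq.trans ?_ h2.symm)
  have h5 : eqToHom (π'.w_obj ξ.obj).symm ≫ β.hom = eqToHom (ρ.w_obj ξ).symm ≫ β₁.hom := h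
  have h6 := congrArg (fun t => eqToHom (f.w_obj ξ.obj) ≫ t ≫ m.hom) h5
  simp only [Category.assoc] at h6
  exact h6.symm

include hi hρ in
theorem isRep_transfer {η₁ : (ofSp U').obj} {ζ : (ofSp X).obj} (m : (ofSpMap g).obj ((ofSpMap ι).obj η₁) ⟶ ζ)
    (m₁ : (ofSpMap (ι ≫ g)).obj η₁ ⟶ ζ) (hm : m₁.hom = m.hom)
    (h : IsRep (MorphismProperty.isomorphisms Scheme.{u}) (fibSq e m)) :
    IsRep (MorphismProperty.isomorphisms Scheme.{u}) (fibSq e' m₁) := by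
  intro ξ hξ
  obtain ⟨y, α, hα, hs⟩ := h ξ hξ
  obtain ⟨hQ, β₁, hβ₁⟩ := up hi hρ (FObj.pt y) (FObj.arr y)
  let y₁ : (fibCat ρ η₁).obj := ⟨⟨FObj.pt y, hQ⟩, β₁⟩
  have hy : ((fibSq e' m₁).obj y₁).arr = ((fibSq e m).obj y).arr :=
    arr_eq e e' m m₁ hm y₁.pt β₁ (FObj.arr y) hβ₁.symm
  let α₁ : (fibSq e' m₁).obj y₁ ⟶ ξ := FObj.mkHom α.hom (by
    rw [hy]
    exact α.comm)
  refine ⟨y₁, α₁, ?_, hs⟩
  intro θ β
  obtain ⟨τ, hτ⟩ := down hρ (FObj.pt θ) (FObj.arr θ)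
  let θ₀ : (fibCat π' ((ofSpMap ι).obj η₁)).obj := ⟨θ.pt.obj, τ⟩
  have hθ : ((fibSq e' m₁).obj θ).arr = ((fibSq e m).obj θ₀).arr :=
    arr_eq e e' m m₁ hm θ.pt θ.arr τ hτ
  let β₀ : (fibSq e m).obj θ₀ ⟶ ξ := FObj.mkHom β.hom (by
    rw [← hθ]
    exact β.comm)
  obtain ⟨χ₀, hχ₀, hu⟩ := hα θ₀ β₀
  let k : θ.pt ⟶ y₁.pt := ObjectProperty.homMk χ₀.hom
  let χ : θ ⟶ y₁ := FObj.mkHom k (by
    refine arr_ext ρ ?_
    have h1 := map_comp_baseOver ρ k β₁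
    have h2 := map_comp_baseOver π' χ₀.hom (FObj.arr y)
    rw [χ₀.comm] at h2
    refine h1.symm.trans ?_
    rw [hβ₁]
    exact h2.trans hτ)
  have h5 : f.map χ₀.hom ≫ α.hom = β.hom := congrArg FObj.Hom.hom hχ₀
  refine ⟨χ, FObj.hom_ext h5, ?_⟩
  intro χ' hχ'
  let k' : θ₀.pt ⟶ FObj.pt y := (FObj.Hom.hom χ').hom
  let χ'₀ : θ₀ ⟶ y := FObj.mkHom k' (by
    refine arr_ext π' ?_
    have h1 := map_comp_baseOver ρ (FObj.Hom.hom χ') β₁
    have h2 := map_comp_baseOver π' k' (FObj.arr y)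
    have h3 : ρ.map (FObj.Hom.hom χ') ≫ β₁ = θ.arr := χ'.comm
    rw [h3, hβ₁] at h1
    exact (h2.symm.trans h1).trans hτ.symm)
  have h6 : f.map k' ≫ α.hom = β.hom := congrArg FObj.Hom.hom hχ'
  have h4 : χ'₀ = χ₀ := hu χ'₀ (FObj.hom_ext h6)
  refine FObj.hom_ext (ObjectProperty.hom_ext _ ?_)
  exact congrArg FObj.Hom.hom h4

end Transfer

noncomputable section Yo

/-- The morphism from a scheme given by a section. -/
def yo {M : Sp S} {T : Over S} (s : M.obj.obj (op T)) : (yon S).obj T ⟶ M :=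
  (GrothendieckTopology.uliftYonedaEquiv.{u + 1} (J S)).symm s

theorem yo_equiv {M : Sp S} {T : Over S} (x : (yon S).obj T ⟶ M) :
    yo ((GrothendieckTopology.uliftYonedaEquiv.{u + 1} (J S)) x) = x :=
  (GrothendieckTopology.uliftYonedaEquiv.{u + 1} (J S)).symm_apply_apply x

theorem yo_surj {M : Sp S} {T : Over S} (x : (yon S).obj T ⟶ M) : ∃ s : M.obj.obj (op T), yo s = x := ⟨_, yo_equiv x⟩

theorem yo_inj {M : Sp S} {T : Over S} {s t : M.obj.obj (op T)} (h : yo s = yo t) : s = t :=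
  (GrothendieckTopology.uliftYonedaEquiv.{u + 1} (J S)).symm.injective h

theorem yo_rs {M : Sp S} {A B : Over S} (f : A ⟶ B) (s : M.obj.obj (op B)) : yo (rs M f s) = (yon S).map f ≫ yo s :=
  (GrothendieckTopology.uliftYonedaEquiv_symm_naturality_left.{u + 1} (J S) f M s).symm

theorem yo_app {M N : Sp S} (g : M ⟶ N) {T : Over S} (s : M.obj.obj (op T)) : yo (g.hom.app _ s) = yo s ≫ g := by
  apply (GrothendieckTopology.uliftYonedaEquiv.{u + 1} (J S)).injective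
  rw [GrothendieckTopology.uliftYonedaEquiv_comp]
  unfold yo
  rw [Equiv.apply_symm_apply, Equiv.apply_symm_apply]

theorem exists_sec_iff {M N : Sp S} (g : M ⟶ N) {A B : Over S} (f : A ⟶ B) (s₀ : N.obj.obj (op B)) :
    (∃ s : M.obj.obj (op A), g.hom.app _ s = rs N f s₀) ↔ ∃ x : (yon S).obj A ⟶ M, x ≫ g = (yon S).map f ≫ yo s₀ := by
  constructor
  · rintro ⟨s, hs⟩
    exact ⟨yo s, by rw [← yo_app, hs, yo_rs]⟩
  · rintro ⟨x, hx⟩
    obtain ⟨s, rfl⟩ := yo_surj x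
    refine ⟨s, yo_inj ?_⟩
    rw [yo_app, hx, yo_rs]

/-- The locus over an open subspace is open. -/
theorem openLocus_QQ {𝒳' : BasedCategory.{v, w} (Over S)} {U' X' : Sp S} (π' : 𝒳' ⥤ᵇ ofSp X') (ι : U' ⟶ X')
    (hι : RepWith @IsOpenImmersion ι) : K901.OpenSub.OpenLocus 𝒳' (QQ π' ι) := by
  intro A
  let x₀ := yo (secOf π' A)
  let P : Over S := hι.rep.pullback x₀
  let k : P ⟶ 𝒳'.p.obj A := hι.rep.snd x₀
  have sq : IsPullback (hι.rep.fst x₀) ((yon S).map k) ι x₀ := hι.rep.isPullback x₀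
  have hk : IsOpenImmersion k.left := hι.property x₀ _ _ sq
  refine ⟨k.left.opensRange, fun B φ => ?_⟩
  rw [show QQ π' ι B ↔ _ from exists_obj_iff π' ι B, ← map_secOf π' φ, exists_sec_iff]
  constructor
  · rintro ⟨x, hx⟩
    obtain ⟨b, hb⟩ := (yon S).map_surjective (sq.lift x _ hx)
    have h1 : b ≫ k = 𝒳'.p.map φ := (yon S).map_injective (by rw [Functor.map_comp, hb, sq.lift_snd])
    rw [← h1]
    rintro _ ⟨t, rfl⟩
    exact ⟨b.left t, rfl⟩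
  · intro h
    let b : 𝒳'.p.obj B ⟶ P := Over.homMk (IsOpenImmersion.lift k.left (𝒳'.p.map φ).left h) (by
      rw [← Over.w k, IsOpenImmersion.lift_fac_assoc, Over.w])
    have h1 : b ≫ k = 𝒳'.p.map φ := by
      ext1
      exact IsOpenImmersion.lift_fac ..
    exact ⟨(yon S).map b ≫ hι.rep.fst x₀, by rw [Category.assoc, sq.w, ← h1, Functor.map_comp, Category.assoc]⟩

end Yo

section Space

theorem mono_of_open {F G : Sp S} {j : F ⟶ G} (hj : RepWith @IsOpenImmersion j) : Mono j := by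
  refine ⟨fun {Z} x y hxy => ?_⟩
  refine K613.Basic.hom_ext fun T z => ?_
  obtain ⟨V, snd, fst, sq⟩ := hj.1 (z ≫ x ≫ j)
  have h1 : IsOpenImmersion snd.left := hj.2 _ _ _ sq
  have h2 : Mono snd := Over.mono_of_mono_left snd
  have h3 : Mono ((yon S).map snd) := inferInstance
  have e1 : sq.lift (z ≫ x) (𝟙 _) (by simp) = sq.lift (z ≫ y) (𝟙 _) (by simp [hxy]) := by
    rw [← cancel_mono ((yon S).map snd), sq.lift_snd, sq.lift_snd]
  rw [← sq.lift_fst (z ≫ x) (𝟙 _) (by simp), e1, sq.lift_fst]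

theorem app_injective {F G : Sp S} {j : F ⟶ G} (hj : RepWith @IsOpenImmersion j) (T : (Over S)ᵒᵖ) :
    Function.Injective (j.hom.app T) := by
  intro s t h
  have := mono_of_open hj
  refine yo_inj ((cancel_mono j).1 ?_)
  rw [← yo_app, ← yo_app]
  exact congrArg yo h

theorem isQuasiSeparatedSp_of_open {F G : Sp S} {j : F ⟶ G} (hj : RepWith @IsOpenImmersion j)
    (hG : IsQuasiSeparatedSp G) : IsQuasiSeparatedSp F := by
  have := mono_of_open hj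
  exact MorphismProperty.of_isPullback (P := RepWith @QuasiCompact) (K610.Sub.diag_pullback_of_mono j).flip hG

/-- The open image of an etale scheme over an algebraic space. -/
theorem exists_open_image (X' : Space S) (E' : EtOver X'.obj) : ∃ (U' : Sp S) (_ : IsAlgSpace U') (ι : U' ⟶ X'.obj)
    (a : (yon S).obj E'.obj.left ⟶ U'), RepWith @IsOpenImmersion ι ∧ a ≫ ι = E'.obj.hom ∧ RepWith @Etale a ∧
      RepWith @Surjective a := by
  obtain ⟨X₁, j, hj, hr⟩ := Groth.Agent.S10195.result X' (Set.range (AlgSp.Points.ofPt E'.obj.hom))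
    (K630.isOpenMap_ofPt E'.obj.hom E'.property).isOpen_range
  obtain ⟨a, h1, h2, h3, -⟩ := Groth.Agent.S10196.result E'.obj.hom E'.property j hj hr
  exact ⟨X₁.obj, X₁.property, j.hom, a, hj, h1, h2, h3⟩

theorem sec_etaOf {M : Sp S} (E : EtOver M) : yo (etaOf E).sec = E.obj.hom := yo_equiv _

theorem etaOf_eq {U' X' : Sp S} {ι : U' ⟶ X'} {E' : EtOver X'} {a : (yon S).obj E'.obj.left ⟶ U'} (ha : RepWith @Etale a)
    (h : a ≫ ι = E'.obj.hom) : etaOf E' = (ofSpMap ι).obj (etaOf (EtOver.mk a ha)) := by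
  have h2 : yo (ι.hom.app (op E'.obj.left) (etaOf (EtOver.mk a ha)).sec) = yo (etaOf (EtOver.mk a ha)).sec ≫ ι :=
    yo_app ι _
  have h3 : yo (etaOf (EtOver.mk a ha)).sec = a := sec_etaOf _
  have h1 : (etaOf E').sec = ι.hom.app (op E'.obj.left) (etaOf (EtOver.mk a ha)).sec :=
    yo_inj ((sec_etaOf E').trans (h.symm.trans ((congrArg (fun t => t ≫ ι) h3).symm.trans h2.symm)))
  exact congrArg (fun t => (⟨E'.obj.left, t⟩ : (ofSp X').obj)) h1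

theorem isEtaleMor_comp {U' X' X : Space S} {ι : U'.obj ⟶ X'.obj} {g : X'.obj ⟶ X.obj} {E' : EtOver X'.obj} {E : EtOver X.obj}
    {a : (yon S).obj E'.obj.left ⟶ U'.obj} (ha : RepWith @Etale a) (has : RepWith @Surjective a)
    (h : a ≫ ι = E'.obj.hom) (m : (ofSpMap g).obj (etaOf E') ⟶ etaOf E) (hm : IsIso (bmap (ofSp X.obj) m)) :
    IsEtaleMor (ι ≫ g) := by
  refine (K630.isEtaleMor_iff X.property).2 (K630.locP_of_chart K630.good_etale (ι ≫ g) a E.obj.hom m.hom ha has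
    E.property ?_ ?_)
  · have h1 : rs X.obj m.hom (etaOf E).sec = g.hom.app _ (etaOf E').sec := m.map_sec
    have h2 := congrArg yo h1
    have h3 : yo (g.hom.app (op E'.obj.left) (etaOf E').sec) = yo (etaOf E').sec ≫ g := yo_app g _
    rw [yo_rs, sec_etaOf] at h2
    refine Eq.trans ?_ (h3.symm.trans h2.symm)
    rw [sec_etaOf, ← h, Category.assoc]
  · have : IsIso m.hom.left := hm
    infer_instance

theorem mem_range_points {𝒳' : BasedCategory.{v, w} (Over S)} {U' X' : Sp S} (π' : 𝒳' ⥤ᵇ ofSp X') (ι : U' ⟶ X')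
    (q : FPt 𝒳') {η₁ : (ofSp U').obj} (a' : π'.obj q.obj ⟶ (ofSpMap ι).obj η₁) :
    Points.map π' (Points.mk q) ∈ Set.range (Points.map (ofSpMap ι)) := by
  let o : (ofSp U').obj := ⟨(π'.obj q.obj).base, rs U' a'.hom η₁.sec⟩
  have ho : (ofSpMap ι).obj o = π'.obj q.obj := by
    have h1 : rs X' a'.hom (ι.hom.app _ η₁.sec) = (π'.obj q.obj).sec := a'.map_sec
    change (⟨(π'.obj q.obj).base, ι.hom.app _ (rs U' a'.hom η₁.sec)⟩ : (ofSp X').obj) = _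
    rw [app_rs, h1]
  let q₁ : FPt (ofSp U') := { K := q.K, str := q.str, obj := o, lies := (π'.w_obj q.obj).trans q.lies }
  refine ⟨Points.mk q₁, ?_⟩
  exact AlgSt.Points.sound ⟨q.map π', eqToHom ho.symm, 𝟙 _, trivial⟩

end Space

section Main

variable {𝒳' 𝒳 : BasedCategory.{v, w} (Over S)} {U' X' X : Sp S}
  {π' : 𝒳' ⥤ᵇ ofSp X'} {π : 𝒳 ⥤ᵇ ofSp X} {f : 𝒳' ⥤ᵇ 𝒳} {g : X' ⟶ X}
  (e : BasedFunctor.comp f π ≅ BasedFunctor.comp π' (ofSpMap g)) {ι : U' ⟶ X'}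
  (hi : ∀ T, Function.Injective (ι.hom.app T)) {ρ : fullSub 𝒳' (QQ π' ι) ⥤ᵇ ofSp U'}
  (hρ : BasedFunctor.comp ρ (ofSpMap ι) = BasedFunctor.comp (subIncl 𝒳' (QQ π' ι)) π')
  (e' : BasedFunctor.comp (BasedFunctor.comp (subIncl 𝒳' (QQ π' ι)) f) π ≅ BasedFunctor.comp ρ (ofSpMap (ι ≫ g)))

include hi hρ in
theorem transfer {η₁ : (ofSp U').obj} {η' : (ofSp X').obj} (h : η' = (ofSpMap ι).obj η₁) {ζ : (ofSp X).obj}
    (m : (ofSpMap g).obj η' ⟶ ζ) (hmi : IsIso (bmap (ofSp X) m))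
    (hF : IsRep (MorphismProperty.isomorphisms Scheme.{u}) (fibSq e m)) :
    ∃ m₁ : (ofSpMap (ι ≫ g)).obj η₁ ⟶ ζ, IsIso (bmap (ofSp X) m₁) ∧
      IsRep (MorphismProperty.isomorphisms Scheme.{u}) (fibSq e' m₁) := by
  subst h
  exact ⟨⟨m.hom, m.map_sec⟩, hmi, isRep_transfer e hi hρ e' m _ rfl hF⟩

/-- The pullback of an etale surjective chart. -/
theorem exists_nbhd {U' : Sp S} {E₀ : Over S} {a : (yon S).obj E₀ ⟶ U'} (ha : RepWith @Etale a)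
    (has : RepWith @Surjective a) (n : (ofSp U').obj) (t : ↥n.base.left) :
    ∃ (n' : (ofSp U').obj) (x : n' ⟶ n) (_ : n' ⟶ etaOf (EtOver.mk a ha)), Etale x.hom.left ∧ t ∈ Set.range x.hom.left := by
  let P : Over S := ha.rep.pullback (yo n.sec)
  let k : P ⟶ n.base := ha.rep.snd (yo n.sec)
  have sq : IsPullback (ha.rep.fst (yo n.sec)) ((yon S).map k) a (yo n.sec) := ha.rep.isPullback (yo n.sec)
  have hk : Etale k.left := ha.property (yo n.sec) _ _ sq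
  have hk' : Surjective k.left := has.property (yo n.sec) _ _ sq
  obtain ⟨l, hl⟩ := (yon S).map_surjective (ha.rep.fst (yo n.sec))
  refine ⟨⟨P, rs U' k n.sec⟩, ⟨k, rfl⟩, ⟨l, ?_⟩, hk, hk'.surj t⟩
  change rs U' l (etaOf (EtOver.mk a ha)).sec = rs U' k n.sec
  refine yo_inj ?_
  rw [yo_rs, yo_rs, sec_etaOf, hl]
  exact sq.w

end Main

section Final

open K907.Atl

/-- The statement of (N2). -/
def N2 (S : Scheme.{u}) : Prop :=
  ∀ (𝒲 𝒳 : AlgSt.Cat S)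
    (h𝒲 : IsAlgStack Scheme.fppfPrecoverage 𝒲) (h𝒳 : IsAlgStack Scheme.fppfPrecoverage 𝒳)
    (N M : Space S) (hN : IsQuasiSeparatedSp N.obj) (hM : IsQuasiSeparatedSp M.obj)
    (ρ : 𝒲 ⥤ᵇ ofSp N.obj) (π : 𝒳 ⥤ᵇ ofSp M.obj) (f : 𝒲 ⥤ᵇ 𝒳) (g : N.obj ⟶ M.obj)
    (e : BasedFunctor.comp f π ≅ BasedFunctor.comp ρ (ofSpMap g))
    (h : ∀ (n : (ofSp N.obj).obj) (t : ↥n.base.left), ∃ (E' : EtOver N.obj) (E : EtOver M.obj)
      (m : (ofSpMap g).obj (etaOf E') ⟶ etaOf E) (n' : (ofSp N.obj).obj) (a : n' ⟶ n) (b : n' ⟶ etaOf E'),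
      IsAffine E'.obj.left.left ∧ IsAffine E.obj.left.left ∧ IsIso (bmap (ofSp M.obj) m) ∧
      IsRep (MorphismProperty.isomorphisms Scheme.{u}) (fibSq e m) ∧ Etale a.hom.left ∧ t ∈ Set.range a.hom.left),
    IsEtaleMor g ∧ FibCat.IsTwoCartOver f ρ e

/-- (N3) the open version. -/
theorem exists_open_of_chart {S : Scheme.{u}} [QuasiSeparatedSpace S] (hN2 : N2 S) (𝒳' 𝒳 : AlgSt.Cat S)
    (h𝒳' : IsAlgStack Scheme.fppfPrecoverage 𝒳') (h𝒳 : IsAlgStack Scheme.fppfPrecoverage 𝒳)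
    (X' X : Space S) (hX' : IsQuasiSeparatedSp X'.obj) (hX : IsQuasiSeparatedSp X.obj)
    (π' : 𝒳' ⥤ᵇ ofSp X'.obj) (π : 𝒳 ⥤ᵇ ofSp X.obj) (f : 𝒳' ⥤ᵇ 𝒳) (g : X'.obj ⟶ X.obj)
    (e : BasedFunctor.comp f π ≅ BasedFunctor.comp π' (ofSpMap g))
    (E' : EtOver X'.obj) (E : EtOver X.obj) (hE' : IsAffine E'.obj.left.left) (hE : IsAffine E.obj.left.left)
    (m : (ofSpMap g).obj (etaOf E') ⟶ etaOf E) (hm : IsIso (bmap (ofSp X.obj) m))
    (hF : IsRep (MorphismProperty.isomorphisms Scheme.{u}) (fibSq e m)) (q : FPt 𝒳') (a' : π'.obj q.obj ⟶ etaOf E') :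
    ∃ (U' : Sp S) (ι : U' ⟶ X'.obj), RepWith @IsOpenImmersion ι ∧
      Points.map π' (Points.mk q) ∈ Set.range (Points.map (ofSpMap ι)) ∧ IsEtaleMor (ι ≫ g) ∧
      ∀ (ρ : fullSub 𝒳' (fun ξ => ∃ η : (ofSp U').obj, (ofSpMap ι).obj η = π'.obj ξ) ⥤ᵇ ofSp U')
        (hρ : BasedFunctor.comp ρ (ofSpMap ι) = BasedFunctor.comp (subIncl 𝒳' (fun ξ => ∃ η : (ofSp U').obj, (ofSpMap ι).obj η = π'.obj ξ)) π')
        (e' : BasedFunctor.comp (BasedFunctor.comp (subIncl 𝒳' (fun ξ => ∃ η : (ofSp U').obj, (ofSpMap ι).obj η = π'.obj ξ)) f) π ≅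
          BasedFunctor.comp ρ (ofSpMap (ι ≫ g))),
        FibCat.IsTwoCartOver (BasedFunctor.comp (subIncl 𝒳' (fun ξ => ∃ η : (ofSp U').obj, (ofSpMap ι).obj η = π'.obj ξ)) f) ρ e' := by
  obtain ⟨U', hU', ι, a, hι, ha, hae, has⟩ := exists_open_image X' E'
  have hη := etaOf_eq hae ha
  refine ⟨U', ι, hι, ?_, isEtaleMor_comp (U' := ⟨U', hU'⟩) hae has ha m hm, ?_⟩
  · exact mem_range_points π' ι q (η₁ := etaOf (EtOver.mk a hae)) (a' ≫ eqToHom hη)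
  intro ρ hρ e'
  refine (hN2 (fullSub 𝒳' (QQ π' ι)) 𝒳 (K901.OpenSub.isOpenSubstack_fppf h𝒳' (openLocus_QQ π' ι hι)).2.1 h𝒳
    ⟨U', hU'⟩ X (isQuasiSeparatedSp_of_open hι hX') hX ρ π (BasedFunctor.comp (subIncl 𝒳' (QQ π' ι)) f) (ι ≫ g) e'
    fun n t => ?_).2
  obtain ⟨m₁, h1, h2⟩ := transfer e (app_injective hι) hρ e' hη m hm hF
  obtain ⟨n', x, y, h3, h4⟩ := exists_nbhd hae has n t
  exact ⟨EtOver.mk a hae, E, m₁, n', x, y, hE', hE, h1, h2, h3, h4⟩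

end Final

end K872.OpenChart
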